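import Groth.Agent.H68.CMM.Dual

/-!
Connected cocommutative bialgebras are conilpotent; primitivity criterion.
-/

set_option autoImplicit false

open TensorProduct WithConv LinearMap Coalgebra

attribute [local instance 100] LieRing.ofAssociativeRing

namespace Groth.Agent.H68.CMM

variable {k : Type*} [Field k] {H : Type*} [Ring H] [Bialgebra k H]

omit [Ring H] [Bialgebra k H] in
lemma eq_zero_of_pairing {M N : Type*} [AddCommGroup M] [Module k M] [AddCommGroup N] [Module k N] {t : M ⊗[k] N}
    (h : ∀ (α : M →ₗ[k] k) (β : N →ₗ[k] k), TensorProduct.lid k k (TensorProduct.map α β t) = 0) : t = 0 := by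
  let a := Module.Free.chooseBasis k M
  let b := Module.Free.chooseBasis k N
  refine (a.tensorProduct b).ext_elem fun ⟨i, j⟩ => ?_
  have e : (a.tensorProduct b).coord (i, j) =
      (TensorProduct.lid k k).toLinearMap ∘ₗ TensorProduct.map (a.coord i) (b.coord j) := by
    refine TensorProduct.ext' fun x y => ?_
    simp [mul_comm]
  have := LinearMap.congr_fun e t
  rw [LinearMap.comp_apply, LinearEquiv.coe_coe, h, Module.Basis.coord_apply] at this
  rw [this, map_zero, Finsupp.zero_apply]

/-- Contraction of the second tensor factor of the coproduct. -/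
noncomputable def contract (z : H) : Du k H →ₗ[k] H :=
  (TensorProduct.rid k H).toLinearMap ∘ₗ
    { toFun := fun ψ => LinearMap.lTensor H ψ.ofConv (comul z)
      map_add' := fun a b => by simp [LinearMap.lTensor_add]
      map_smul' := fun c a => by simp [LinearMap.lTensor_smul] }

lemma conv_eq_contract (φ ψ : Du k H) (z : H) : (φ * ψ) z = φ.ofConv (contract z ψ) := conv_apply_aux φ ψ z

lemma exists_fg_contract (z : H) : ∃ Z : Submodule k H, Module.Finite k Z ∧ ∀ ψ : Du k H, contract z ψ ∈ Z := by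
  classical
  obtain ⟨S, hS⟩ := TensorProduct.exists_finset (R := k) (comul (R := k) z)
  refine ⟨Submodule.span k ((S.image Prod.fst : Finset H) : Set H), Module.Finite.span_of_finite k (Finset.finite_toSet _),
    fun ψ => ?_⟩
  show TensorProduct.rid k H (LinearMap.lTensor H ψ.ofConv (comul z)) ∈ _
  rw [hS, map_sum, map_sum]
  refine sum_mem fun p hp => ?_
  rw [LinearMap.lTensor_tmul, TensorProduct.rid_tmul]
  exact Submodule.smul_mem _ _ (Submodule.subset_span (Finset.mem_image_of_mem _ hp))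

variable [Coalgebra.IsCocomm k H]

lemma eq_one_smul_add (φ : Du k H) : φ = φ 1 • (1 : Du k H) + (φ - φ 1 • (1 : Du k H)) := by abel

lemma prim_of_vanish {z : H} (hε : counit (R := k) z = 0) (h : ∀ a ∈ aug k H, ∀ b ∈ aug k H, (a * b) z = 0) :
    z ∈ SGA3y.primLie k H := by
  show comul (R := k) z = z ⊗ₜ[k] (1 : H) + (1 : H) ⊗ₜ[k] z
  rw [← sub_eq_zero]
  refine eq_zero_of_pairing fun α β => ?_
  obtain ⟨φ, rfl⟩ : ∃ φ : Du k H, φ.ofConv = α := ⟨toConv α, rfl⟩
  obtain ⟨ψ, rfl⟩ : ∃ ψ : Du k H, ψ.ofConv = β := ⟨toConv β, rfl⟩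
  have e : (φ * ψ) z = φ z * ψ 1 + φ 1 * ψ z := by
    conv_lhs => rw [eq_one_smul_add φ, eq_one_smul_add ψ]
    rw [add_mul, mul_add, mul_add]
    simp only [smul_mul_assoc, mul_smul_comm, one_mul, mul_one]
    have := h _ (sub_mem_aug φ) _ (sub_mem_aug ψ)
    simp only [ofConv_add, ofConv_smul, LinearMap.add_apply, LinearMap.smul_apply, du_one_apply, hε, this,
      ofConv_sub, LinearMap.sub_apply, smul_eq_mul, mul_zero, zero_add, add_zero, sub_zero]
    ring
  rw [convMul_apply] at e
  rw [map_sub, map_add, map_sub, map_add, TensorProduct.map_tmul, TensorProduct.map_tmul, TensorProduct.lid_tmul,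
    TensorProduct.lid_tmul, smul_eq_mul, smul_eq_mul, sub_eq_zero]
  rw [← e]
  induction (comul (R := k) z) using TensorProduct.induction_on with
  | zero => simp
  | tmul a b => simp
  | add s t hs ht => simp only [map_add, hs, ht]

variable (hconn : SGA3y.IsConnectedCoalg k H)
include hconn

lemma maximal_eq_aug (Z : Submodule k H) [Module.Finite k Z] (M : Ideal (Du k H)) (hM : M.IsMaximal)
    (hJ : ∀ φ : Du k H, (∀ z ∈ Z, φ.ofConv z = 0) → φ ∈ M) : M = aug k H := by
  classical
  set N : Submodule k H :=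
    { carrier := {z | ∀ φ ∈ M, φ.ofConv z = 0}
      add_mem' := fun ha hb φ hφ => by rw [map_add, ha φ hφ, hb φ hφ, add_zero]
      zero_mem' := fun φ _ => map_zero _
      smul_mem' := fun c z hz φ hφ => by rw [map_smul, hz φ hφ, smul_zero] } with hN
  let res : Du k H →ₗ[k] Module.Dual k Z :=
    { toFun := fun φ => φ.ofConv ∘ₗ Z.subtype
      map_add' := fun a b => rfl
      map_smul' := fun c a => rfl }
  set Ψ : Submodule k (Module.Dual k Z) := (Submodule.restrictScalars k M).map res with hΨ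
  have hmemΨ : ∀ φ : Du k H, res φ ∈ Ψ → φ ∈ M := by
    rintro φ ⟨μ, hμ, he⟩
    have hd : φ - μ ∈ M := hJ _ fun z hz => by
      have := LinearMap.congr_fun he ⟨z, hz⟩
      exact sub_eq_zero.mpr this.symm
    have := M.add_mem hd hμ
    rwa [sub_add_cancel] at this
  haveI hfd : Module.Finite k Ψ := FiniteDimensional.finiteDimensional_submodule Ψ
  have hann : ∀ φ : Du k H, (∀ z ∈ N, φ.ofConv z = 0) → φ ∈ M := by
    intro φ hφ
    refine hmemΨ φ ?_
    rw [← @Subspace.dualCoannihilator_dualAnnihilator_eq _ _ _ _ _ Ψ hfd]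
    rw [Submodule.mem_dualAnnihilator]
    intro z hz
    rw [Submodule.mem_dualCoannihilator] at hz
    exact hφ z fun μ hμ => hz (res μ) ⟨μ, hμ, rfl⟩
  have hNbot : N ≠ ⊥ := by
    intro h
    exact hM.ne_top ((Ideal.eq_top_iff_one _).mpr (hann 1 fun z hz => by
      rw [h, Submodule.mem_bot] at hz
      rw [hz, map_zero]))
  obtain ⟨p, hp⟩ : ∃ p : H →ₗ[k] N, ∀ x : N, p x = x := by
    obtain ⟨p, hp⟩ := N.subtype.exists_leftInverse_of_injective N.ker_subtype
    exact ⟨p, fun x => LinearMap.congr_fun hp x⟩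
  have hsub : ∀ d ∈ N, comul (R := k) d ∈ LinearMap.range (TensorProduct.map N.subtype N.subtype) := by
    intro d hd
    refine ⟨TensorProduct.map p p (comul d), ?_⟩
    rw [← sub_eq_zero]
    refine eq_zero_of_pairing fun α β => ?_
    have hmemL : ∀ α : H →ₗ[k] k, toConv (α ∘ₗ (LinearMap.id - N.subtype ∘ₗ p)) ∈ M := fun α => hann _ fun z hz => by
      simp only [ofConv_toConv, LinearMap.comp_apply, LinearMap.sub_apply, LinearMap.id_apply, Submodule.subtype_apply]
      rw [hp ⟨z, hz⟩, sub_self, map_zero]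
    have h1 := hd (toConv (α ∘ₗ (LinearMap.id - N.subtype ∘ₗ p)) * toConv β) (M.mul_mem_right _ (hmemL α))
    have h2 := hd (toConv (α ∘ₗ N.subtype ∘ₗ p) * toConv (β ∘ₗ (LinearMap.id - N.subtype ∘ₗ p))) (M.mul_mem_left _ (hmemL β))
    rw [convMul_apply] at h1 h2
    simp only [ofConv_toConv] at h1 h2
    have key : ∀ t : H ⊗[k] H,
        TensorProduct.lid k k (TensorProduct.map α β (TensorProduct.map N.subtype N.subtype (TensorProduct.map p p t) - t)) +
          LinearMap.mul' k k (TensorProduct.map (α ∘ₗ (LinearMap.id - N.subtype ∘ₗ p)) β t) +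
          LinearMap.mul' k k (TensorProduct.map (α ∘ₗ N.subtype ∘ₗ p) (β ∘ₗ (LinearMap.id - N.subtype ∘ₗ p)) t) = 0 := by
      intro t
      induction t using TensorProduct.induction_on with
      | zero => simp
      | tmul a b =>
        simp only [TensorProduct.map_tmul, map_sub, TensorProduct.lid_tmul, LinearMap.mul'_apply, LinearMap.comp_apply,
          LinearMap.sub_apply, LinearMap.id_apply, smul_eq_mul]
        ring
      | add s t hs ht =>
        simp only [map_add, map_sub] at hs ht ⊢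
        linear_combination hs + ht
    have := key (comul d)
    rwa [h1, h2, add_zero, add_zero] at this
  exact hM.eq_of_le (by rw [Ne, Ideal.eq_top_iff_one, mem_aug, du_one_apply]; simp)
    fun φ hφ => mem_aug.mpr (hconn N hsub hNbot φ hφ)

set_option synthInstance.maxHeartbeats 400000 in
theorem exists_vanish (x : H) : ∃ n : ℕ, ∀ φ ∈ aug k H ^ (n + 1), φ.ofConv x = 0 := by
  classical
  obtain ⟨Z, hZ, hc⟩ := exists_fg_contract (k := k) x
  let J : Ideal (Du k H) :=
    { carrier := {φ | ∀ ψ : Du k H, (φ * ψ) x = 0}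
      add_mem' := fun ha hb ψ => by rw [add_mul, ofConv_add, LinearMap.add_apply, ha, hb, add_zero]
      zero_mem' := fun ψ => by rw [zero_mul]; rfl
      smul_mem' := fun c φ hφ ψ => by rw [smul_eq_mul, mul_assoc, mul_left_comm]; exact hφ _ }
  have hJ : ∀ φ : Du k H, (∀ z ∈ Z, φ.ofConv z = 0) → φ ∈ J := fun φ h ψ => by
    rw [conv_eq_contract]; exact h _ (hc ψ)
  let q := (Ideal.Quotient.mkₐ k J).toLinearMap
  let res : Du k H →ₗ[k] Module.Dual k Z :=
    { toFun := fun φ => φ.ofConv ∘ₗ Z.subtype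
      map_add' := fun a b => rfl
      map_smul' := fun c a => rfl }
  have hker : LinearMap.ker res ≤ LinearMap.ker q := fun φ hφ => by
    rw [LinearMap.mem_ker] at hφ ⊢
    exact Ideal.Quotient.eq_zero_iff_mem.mpr (hJ φ fun z hz => LinearMap.congr_fun hφ ⟨z, hz⟩)
  haveI : Module.Finite k (Du k H ⧸ LinearMap.ker res) := Module.Finite.equiv res.quotKerEquivRange.symm
  haveI : Module.Finite k (Du k H ⧸ J) := Module.Finite.of_surjective ((LinearMap.ker res).liftQ q hker)
    fun y => by
      obtain ⟨φ, rfl⟩ := Ideal.Quotient.mk_surjective y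
      exact ⟨Submodule.Quotient.mk φ, rfl⟩
  haveI : IsArtinianRing (Du k H ⧸ J) := IsArtinianRing.of_finite k _
  obtain ⟨m, hm⟩ := IsArtinianRing.isNilpotent_jacobson_bot (R := Du k H ⧸ J)
  have hle : (aug k H).map (Ideal.Quotient.mk J) ≤ Ideal.jacobson ⊥ := by
    refine le_sInf fun I hI => ?_
    have hmax : (I.comap (Ideal.Quotient.mk J)).IsMaximal :=
      haveI := hI.2
      Ideal.comap_isMaximal_of_surjective _ Ideal.Quotient.mk_surjective
    have := maximal_eq_aug hconn Z _ hmax fun φ hφ => by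
      rw [Ideal.mem_comap, Ideal.Quotient.eq_zero_iff_mem.mpr (hJ φ hφ)]
      exact zero_mem _
    rw [← this]
    exact Ideal.map_comap_le
  have hpow : ∀ i : ℕ, ∀ φ ∈ aug k H ^ i, Ideal.Quotient.mk J φ ∈ (Ideal.jacobson (⊥ : Ideal (Du k H ⧸ J))) ^ i := by
    intro i
    induction i with
    | zero => intro φ _; rw [Submodule.pow_zero, Ideal.one_eq_top]; exact Submodule.mem_top
    | succ i ih =>
      intro φ hφ
      rw [Submodule.pow_succ] at hφ
      refine Submodule.mul_induction_on hφ (fun a ha b hb => ?_) (fun a b ha hb => by rw [map_add]; exact add_mem ha hb)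
      rw [map_mul, Submodule.pow_succ]
      exact Ideal.mul_mem_mul (ih a ha) (hle (Ideal.mem_map_of_mem _ hb))
  refine ⟨m, fun φ hφ => ?_⟩
  have h1 := hpow m φ (Ideal.pow_le_pow_right (Nat.le_succ m) hφ)
  rw [hm] at h1
  have := (Ideal.Quotient.eq_zero_iff_mem.mp h1 : φ ∈ J) 1
  rwa [mul_one] at this

end Groth.Agent.H68.CMM
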