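import Mathlib
import Groth.Prelude.Def_SGA3y

/-!
The convolution algebra of functionals on a bialgebra, and the pairing with products of primitive elements.
-/

set_option autoImplicit false

open TensorProduct WithConv LinearMap Coalgebra

attribute [local instance 100] LieRing.ofAssociativeRing

namespace Groth.Agent.H68.CMM

variable {k : Type*} [Field k] {H : Type*} [Ring H] [Bialgebra k H]

variable (k H) in
/-- The dual algebra. -/
abbrev Du : Type _ := WithConv (H →ₗ[k] k)

lemma conv_apply_aux (φ ψ : Du k H) (z : H) :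
    (φ * ψ) z = φ.ofConv (TensorProduct.rid k H (LinearMap.lTensor H ψ.ofConv (comul z))) := by
  rw [convMul_apply]
  induction (comul (R := k) z) using TensorProduct.induction_on with
  | zero => simp
  | tmul a b => simp [mul_comm]
  | add s t hs ht => simp only [map_add, hs, ht]

lemma conv_apply_one (φ ψ : Du k H) : (φ * ψ) 1 = φ 1 * ψ 1 := by
  rw [convMul_apply, Bialgebra.comul_one, Algebra.TensorProduct.one_def]
  simp

lemma du_one_apply (z : H) : (1 : Du k H) z = counit (R := k) z := by
  simp

/-- Evaluation at `1`. -/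
def ev1 : Du k H →+* k where
  toFun φ := φ 1
  map_one' := by simp
  map_mul' := conv_apply_one
  map_zero' := rfl
  map_add' _ _ := rfl

variable [Coalgebra.IsCocomm k H]

variable (k H) in
/-- The augmentation ideal. -/
noncomputable def aug : Ideal (Du k H) := RingHom.ker (ev1 (k := k) (H := H))

lemma mem_aug {φ : Du k H} : φ ∈ aug k H ↔ φ 1 = 0 := RingHom.mem_ker

lemma sub_mem_aug (φ : Du k H) : φ - φ 1 • (1 : Du k H) ∈ aug k H := by
  rw [mem_aug]
  simp

lemma smul_mem_pow {j : ℕ} {φ : Du k H} (c : k) (h : φ ∈ aug k H ^ j) : c • φ ∈ aug k H ^ j := by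
  rw [Algebra.smul_def]
  exact Ideal.mul_mem_left _ _ h

omit [Coalgebra.IsCocomm k H] in
lemma counit_prim {x : H} (hx : x ∈ SGA3y.primLie k H) : counit (R := k) x = 0 := by
  have h := congrArg (TensorProduct.lid k H) (rTensor_counit_comul (R := k) x)
  have hx' : comul (R := k) x = x ⊗ₜ[k] (1 : H) + (1 : H) ⊗ₜ[k] x := hx
  rw [hx'] at h
  simp at h
  rcases h with h | h
  · exact h
  · exact absurd (by simpa using congrArg (counit (R := k)) h) (one_ne_zero (α := k))

/-- The transpose of left multiplication. -/
def der (x : H) (φ : Du k H) : Du k H := toConv (φ.ofConv ∘ₗ LinearMap.mulLeft k x)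

omit [Coalgebra.IsCocomm k H] in
lemma der_apply (x : H) (φ : Du k H) (y : H) : der x φ y = φ (x * y) := rfl

omit [Coalgebra.IsCocomm k H] in
lemma der_add (x : H) (φ ψ : Du k H) : der x (φ + ψ) = der x φ + der x ψ := rfl

omit [Coalgebra.IsCocomm k H] in
lemma der_smul (x : H) (c : k) (φ : Du k H) : der x (c • φ) = c • der x φ := rfl

omit [Coalgebra.IsCocomm k H] in
lemma der_zero (x : H) : der x (0 : Du k H) = 0 := rfl

omit [Coalgebra.IsCocomm k H] in
lemma der_mul {x : H} (hx : x ∈ SGA3y.primLie k H) (φ ψ : Du k H) :
    der x (φ * ψ) = der x φ * ψ + φ * der x ψ := by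
  refine WithConv.ext (LinearMap.ext fun y => ?_)
  show (φ * ψ) (x * y) = (der x φ * ψ) y + (φ * der x ψ) y
  rw [convMul_apply, convMul_apply, convMul_apply, Bialgebra.comul_mul,
    show comul (R := k) x = x ⊗ₜ[k] (1 : H) + (1 : H) ⊗ₜ[k] x from hx]
  induction (comul (R := k) y) using TensorProduct.induction_on with
  | zero => simp
  | tmul a b => simp [add_mul, Algebra.TensorProduct.tmul_mul_tmul, der]
  | add s t hs ht => simp only [mul_add, map_add, hs, ht]; abel

lemma der_mem_pow {x : H} (hx : x ∈ SGA3y.primLie k H) (j : ℕ) :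
    ∀ φ ∈ aug k H ^ (j + 1), der x φ ∈ aug k H ^ j := by
  induction j with
  | zero => intro φ _; rw [Submodule.pow_zero, Ideal.one_eq_top]; exact Submodule.mem_top
  | succ j ih =>
    intro φ hφ
    rw [Submodule.pow_succ] at hφ
    refine Submodule.mul_induction_on hφ (fun a ha b hb => ?_) (fun a b ha hb => by rw [der_add]; exact add_mem ha hb)
    rw [der_mul hx]
    refine add_mem ?_ (Ideal.mul_mem_right _ _ ha)
    rw [Submodule.pow_succ]
    exact Ideal.mul_mem_mul (ih a ha) hb

lemma der_sub_mem (x : H) (φ : Du k H) : der x φ - φ x • (1 : Du k H) ∈ aug k H := by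
  have h := sub_mem_aug (der x φ)
  rwa [der_apply, mul_one] at h

variable (k) in
/-- The product of a word in primitive elements. -/
def word {ι : Type*} (b : ι → SGA3y.primLie k H) (l : List ι) : H := (l.map fun a => (b a : H)).prod

variable {ι : Type*} (b : ι → SGA3y.primLie k H)

lemma pow_apply_word (l : List ι) : ∀ φ ∈ aug k H ^ (l.length + 1), φ (word k b l) = 0 := by
  induction l with
  | nil => intro φ hφ; rw [List.length_nil, zero_add, Submodule.pow_one] at hφ; simpa [word] using mem_aug.mp hφ
  | cons a l ih =>
    intro φ hφ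
    have := ih _ (der_mem_pow (b a).2 _ φ hφ)
    rwa [der_apply] at this

lemma apply_word_of_lt {j : ℕ} {l : List ι} {φ : Du k H} (h : l.length < j) (hφ : φ ∈ aug k H ^ j) :
    φ (word k b l) = 0 :=
  pow_apply_word b l φ (Ideal.pow_le_pow_right h hφ)

variable (φ : ι → Du k H)

/-- Products of coordinate functionals. -/
noncomputable def coordProd (s : Multiset ι) : Du k H := (s.map φ).prod

lemma coordProd_cons (a : ι) (s : Multiset ι) : coordProd φ (a ::ₘ s) = φ a * coordProd φ s := by
  simp [coordProd]

lemma coordProd_mem (h1 : ∀ a, φ a ∈ aug k H) (s : Multiset ι) : coordProd φ s ∈ aug k H ^ Multiset.card s := by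
  induction s using Multiset.induction_on with
  | empty => simp [coordProd]
  | cons a s ih =>
    rw [coordProd_cons, Multiset.card_cons, Ideal.IsTwoSided.pow_succ]
    exact Ideal.mul_mem_mul (h1 a) ih

variable [DecidableEq ι]

lemma der_coordProd (h1 : ∀ a, φ a ∈ aug k H) (hd : ∀ a c, φ c (b a : H) = if a = c then 1 else 0)
    (a : ι) (s : Multiset ι) :
    der (b a : H) (coordProd φ s) - (s.count a : k) • coordProd φ (s.erase a) ∈ aug k H ^ Multiset.card s := by
  induction s using Multiset.induction_on with
  | empty => simp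
  | cons c s ih =>
    have hfirst : (der (b a : H) (φ c) - (if a = c then (1 : k) else 0) • (1 : Du k H)) * coordProd φ s ∈
        aug k H ^ (Multiset.card s + 1) := by
      rw [Ideal.IsTwoSided.pow_succ]
      refine Ideal.mul_mem_mul ?_ (coordProd_mem φ h1 s)
      rw [← hd a c]
      exact der_sub_mem _ _
    have hsec : φ c * (der (b a : H) (coordProd φ s) - (s.count a : k) • coordProd φ (s.erase a)) ∈
        aug k H ^ (Multiset.card s + 1) := by
      rw [Ideal.IsTwoSided.pow_succ]
      exact Ideal.mul_mem_mul (h1 c) ih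
    rw [coordProd_cons, der_mul (b a).2, Multiset.card_cons]
    convert add_mem hfirst hsec using 1
    by_cases hac : a = c
    · subst hac
      rw [Multiset.count_cons_self, Multiset.erase_cons_head, if_pos rfl, one_smul, Nat.cast_add, Nat.cast_one, add_smul,
        one_smul, sub_mul, one_mul, mul_sub, mul_smul_comm]
      by_cases hmem : a ∈ s
      · rw [← coordProd_cons, Multiset.cons_erase hmem]
        abel
      · rw [Multiset.count_eq_zero.mpr hmem]
        simp only [Nat.cast_zero, zero_smul]
        abel
    · rw [Multiset.count_cons_of_ne hac, Multiset.erase_cons_tail _ (fun h => hac h.symm), if_neg hac, zero_smul, sub_zero,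
        coordProd_cons, mul_sub, mul_smul_comm]
      abel

lemma coordProd_word [CharZero k] (h1 : ∀ a, φ a ∈ aug k H)
    (hd : ∀ a c, φ c (b a : H) = if a = c then 1 else 0) (l : List ι) :
    ∀ s : Multiset ι, Multiset.card s = l.length →
      ((l : Multiset ι) = s → coordProd φ s (word k b l) ≠ 0) ∧
        ((l : Multiset ι) ≠ s → coordProd φ s (word k b l) = 0) := by
  induction l with
  | nil =>
    intro s hs
    rw [List.length_nil, Multiset.card_eq_zero] at hs
    subst hs
    exact ⟨fun _ => by simp [coordProd, word], fun h => absurd rfl h⟩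
  | cons a l ih =>
    intro s hs
    have e : coordProd φ s (word k b (a :: l)) = (s.count a : k) * coordProd φ (s.erase a) (word k b l) := by
      have h := apply_word_of_lt b (j := Multiset.card s) (l := l) (by rw [hs]; simp) (der_coordProd b φ h1 hd a s)
      have hw : word k b (a :: l) = (b a : H) * word k b l := by simp [word]
      rw [hw, ← der_apply]
      simpa [sub_eq_zero] using h
    by_cases hmem : a ∈ s
    · have hc : (s.count a : k) ≠ 0 := Nat.cast_ne_zero.mpr (Multiset.count_ne_zero.mpr hmem)
      have hcard : Multiset.card (s.erase a) = l.length := by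
        rw [Multiset.card_erase_of_mem hmem, hs]; simp
      obtain ⟨hy, hn⟩ := ih (s.erase a) hcard
      constructor
      · intro h
        rw [e]
        refine mul_ne_zero hc (hy ?_)
        rw [← h, ← Multiset.cons_coe, Multiset.erase_cons_head]
      · intro h
        rw [e, hn (fun h' => h ?_), mul_zero]
        rw [← Multiset.cons_coe, h', Multiset.cons_erase hmem]
    · constructor
      · intro h
        exact absurd (h ▸ (by simp : a ∈ ((a :: l : List ι) : Multiset ι))) hmem
      · intro _
        rw [e, Multiset.count_eq_zero.mpr hmem, Nat.cast_zero, zero_mul]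

omit [DecidableEq ι] in
lemma exists_coords {P : Type*} [AddCommGroup P] [Module k P] (e : Module.Basis ι k P) (j : P →ₗ[k] H)
    (hj : Function.Injective j) (hε : ∀ v, counit (R := k) (j v) = 0) :
    ∃ φ : ι → Du k H, (∀ a, φ a ∈ aug k H) ∧ ∀ a v, φ a (j v) = e.coord a v := by
  obtain ⟨g, hg⟩ := j.exists_leftInverse_of_injective (LinearMap.ker_eq_bot.mpr hj)
  refine ⟨fun a => toConv (e.coord a ∘ₗ g) - (e.coord a (g 1)) • 1, fun a => ?_, fun a v => ?_⟩
  · rw [mem_aug]
    simp
  · have := LinearMap.congr_fun hg v
    simp only [LinearMap.comp_apply, LinearMap.id_apply] at this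
    simp [hε v, this]

end Groth.Agent.H68.CMM
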