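import Groth.Agent.H68.CMM.Conil

/-!
Cartier–Milnor–Moore.
-/

set_option autoImplicit false

open TensorProduct WithConv LinearMap Coalgebra

attribute [local instance 100] LieRing.ofAssociativeRing

namespace Groth.Agent.H68.CMM

variable {k : Type*} [Field k] {L : Type*} [LieRing L] [LieAlgebra k L] {ι : Type*}

variable (k) in
/-- A word in the enveloping algebra. -/
noncomputable def uword (b : ι → L) (l : List ι) : UniversalEnvelopingAlgebra k L :=
  (l.map fun a => UniversalEnvelopingAlgebra.ι k (b a)).prod

variable (k) in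
/-- Span of the short words. -/
noncomputable def wspan (b : ι → L) (n : ℕ) : Submodule k (UniversalEnvelopingAlgebra k L) :=
  Submodule.span k (uword k b '' {l | l.length ≤ n})

variable (e : Module.Basis ι k L)

lemma uword_cons (a : ι) (l : List ι) :
    uword k e (a :: l) = UniversalEnvelopingAlgebra.ι k (e a) * uword k e l := by
  simp [uword]

lemma uword_mem {n : ℕ} {l : List ι} (h : l.length ≤ n) : uword k e l ∈ wspan k e n :=
  Submodule.subset_span ⟨l, h, rfl⟩

lemma mul_uword_mem (v : L) {n : ℕ} {x : UniversalEnvelopingAlgebra k L} (hx : x ∈ wspan k e n) :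
    UniversalEnvelopingAlgebra.ι k v * x ∈ wspan k e (n + 1) := by
  have hv : v ∈ Submodule.span k (Set.range e) := e.span_eq ▸ Submodule.mem_top
  induction hv using Submodule.span_induction with
  | zero => simp
  | add a b _ _ ha hb => rw [map_add, add_mul]; exact add_mem ha hb
  | smul r a _ ha => rw [map_smul, smul_mul_assoc]; exact Submodule.smul_mem _ _ ha
  | mem v hv =>
    obtain ⟨a, rfl⟩ := hv
    induction hx using Submodule.span_induction with
    | zero => simp
    | add p q _ _ hp hq => rw [mul_add]; exact add_mem hp hq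
    | smul r p _ hp => rw [mul_smul_comm]; exact Submodule.smul_mem _ _ hp
    | mem x hx =>
      obtain ⟨l, hl, rfl⟩ := hx
      rw [← uword_cons]
      exact uword_mem e (by simpa using hl)

lemma span_uword : Submodule.span k (Set.range (uword k e)) = ⊤ := by
  rw [eq_top_iff]
  rintro x -
  obtain ⟨t, rfl⟩ : ∃ t, UniversalEnvelopingAlgebra.mkAlgHom k L t = x := Quotient.exists_rep x
  have key : ∀ y ∈ Submodule.span k (Set.range (uword k e)),
      UniversalEnvelopingAlgebra.mkAlgHom k L t * y ∈ Submodule.span k (Set.range (uword k e)) := by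
    induction t using TensorAlgebra.induction with
    | algebraMap r => intro y hy; rw [AlgHom.commutes, ← Algebra.smul_def]; exact Submodule.smul_mem _ _ hy
    | ι v =>
      intro y hy
      rw [← UniversalEnvelopingAlgebra.ι_apply]
      induction hy using Submodule.span_induction with
      | zero => simp
      | add p q _ _ hp hq => rw [mul_add]; exact add_mem hp hq
      | smul r p _ hp => rw [mul_smul_comm]; exact Submodule.smul_mem _ _ hp
      | mem y hy =>
        obtain ⟨l, rfl⟩ := hy
        exact Submodule.span_mono (Set.image_subset_range _ _) (mul_uword_mem e v (uword_mem e (le_refl l.length)))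
    | mul a b ha hb => intro y hy; rw [map_mul, mul_assoc]; exact ha _ (hb _ hy)
    | add a b ha hb => intro y hy; rw [map_add, add_mul]; exact add_mem (ha _ hy) (hb _ hy)
  have := key 1 (Submodule.subset_span ⟨[], by simp [uword]⟩)
  rwa [mul_one] at this

lemma uword_perm {l l' : List ι} (h : l.Perm l') : uword k e l - uword k e l' ∈ wspan k e (l.length - 1) := by
  induction h with
  | nil => simp
  | @cons a l₁ l₂ h ih =>
    rw [uword_cons, uword_cons, ← mul_sub]
    by_cases h0 : l₁.length = 0
    · obtain rfl := List.eq_nil_of_length_eq_zero h0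
      obtain rfl := h.symm.eq_nil
      simp
    · have := mul_uword_mem e (e a) ih
      rwa [show l₁.length - 1 + 1 = (a :: l₁).length - 1 by simp; omega] at this
  | swap a b l =>
    have h1 : UniversalEnvelopingAlgebra.ι k (e b) * UniversalEnvelopingAlgebra.ι k (e a) -
        UniversalEnvelopingAlgebra.ι k (e a) * UniversalEnvelopingAlgebra.ι k (e b) =
        UniversalEnvelopingAlgebra.ι k ⁅e b, e a⁆ := by
      rw [LieHom.map_lie, LieRing.of_associative_ring_bracket]
    rw [uword_cons, uword_cons, uword_cons, uword_cons, ← mul_assoc, ← mul_assoc, ← sub_mul, h1,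
      show (b :: a :: l).length - 1 = l.length + 1 by simp]
    exact mul_uword_mem e _ (uword_mem e le_rfl)
  | @trans l₁ l₂ l₃ h₁ h₂ ih₁ ih₂ =>
    rw [← h₁.length_eq] at ih₂
    have := add_mem ih₁ ih₂
    rwa [sub_add_sub_cancel] at this

theorem span_sorted : Submodule.span k (Set.range fun s : Multiset ι => uword k e s.toList) = ⊤ := by
  rw [eq_top_iff, ← span_uword e, Submodule.span_le]
  rintro _ ⟨l, rfl⟩
  have key : ∀ n, ∀ l : List ι, l.length ≤ n →
      uword k e l ∈ Submodule.span k (Set.range fun s : Multiset ι => uword k e s.toList) := by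
    intro n
    induction n with
    | zero =>
      intro l hl
      obtain rfl := List.eq_nil_of_length_eq_zero (Nat.le_zero.mp hl)
      exact Submodule.subset_span ⟨0, by simp⟩
    | succ n ih =>
      intro l hl
      have hp : l.Perm (Multiset.toList (l : Multiset ι)) := by
        rw [← Multiset.coe_eq_coe, Multiset.coe_toList]
      have h := uword_perm e hp
      have hle : wspan k e (l.length - 1) ≤ Submodule.span k (Set.range fun s : Multiset ι => uword k e s.toList) := by
        rw [wspan, Submodule.span_le]
        rintro _ ⟨l', hl', rfl⟩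
        exact ih l' (le_trans hl' (by omega))
      have := add_mem (hle h) (Submodule.subset_span ⟨(l : Multiset ι), rfl⟩)
      rwa [sub_add_cancel] at this
  exact key _ l le_rfl

variable {H : Type*} [Ring H] [Bialgebra k H] [Coalgebra.IsCocomm k H] [CharZero k]

lemma linearIndependent_word [DecidableEq ι] (b : ι → SGA3y.primLie k H) (φ : ι → Du k H)
    (h1 : ∀ a, φ a ∈ aug k H) (hd : ∀ a c, φ c (b a : H) = if a = c then 1 else 0) :
    LinearIndependent k (fun s : Multiset ι => word k b s.toList) := by
  classical
  rw [linearIndependent_iff']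
  intro S g hg
  by_contra hne
  push_neg at hne
  obtain ⟨s', hs', hgs'⟩ := hne
  obtain ⟨s₀, hs₀, hmax⟩ := Finset.exists_max_image (S.filter fun s => g s ≠ 0) Multiset.card ⟨s', Finset.mem_filter.mpr ⟨hs', hgs'⟩⟩
  obtain ⟨hS₀, hg₀⟩ := Finset.mem_filter.mp hs₀
  have h := congrArg (coordProd φ s₀).ofConv hg
  rw [map_sum, map_zero, Finset.sum_eq_single s₀] at h
  · rw [map_smul, smul_eq_mul] at h
    refine mul_ne_zero hg₀ ((coordProd_word b φ h1 hd s₀.toList s₀ (by simp)).1 (by simp)) h
  · intro s hs hne'
    rw [map_smul, smul_eq_mul]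
    by_cases hgs : g s = 0
    · rw [hgs, zero_mul]
    · have hle := hmax s (Finset.mem_filter.mpr ⟨hs, hgs⟩)
      rcases hle.lt_or_eq with hlt | heq
      · rw [apply_word_of_lt b (j := Multiset.card s₀) (by simpa using hlt) (coordProd_mem φ h1 s₀), mul_zero]
      · rw [(coordProd_word b φ h1 hd s.toList s₀ (by simpa using heq.symm)).2 (by simpa using hne'), mul_zero]
  · exact fun h' => absurd hS₀ h'

lemma word_vanish [DecidableEq ι] (b : ι → SGA3y.primLie k H) (B : Finset ι) :
    ∀ l : List ι, (∀ a ∈ l, a ∈ B) → ∀ φ ∈ aug k H, (∀ a ∈ B, φ.ofConv (b a : H) = 0) →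
      ∀ Ψ ∈ aug k H ^ (l.length - 1), (φ * Ψ) (word k b l) = 0 := by
  intro l
  induction l with
  | nil =>
    intro _ φ hφ _ Ψ _
    rw [show word k b [] = 1 by simp [word], conv_apply_one, mem_aug.mp hφ, zero_mul]
  | cons a l ih =>
    intro hl φ hφ hB Ψ hΨ
    rw [show word k b (a :: l) = (b a : H) * word k b l by simp [word], ← der_apply, der_mul (b a).2, ofConv_add,
      LinearMap.add_apply]
    have hd : der (b a : H) φ ∈ aug k H := by
      rw [mem_aug, der_apply, mul_one]
      exact hB a (hl a (by simp))
    rw [List.length_cons, Nat.add_sub_cancel] at hΨ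
    rw [apply_word_of_lt b (j := l.length + 1) (Nat.lt_succ_self _)
      (by rw [Ideal.IsTwoSided.pow_succ]; exact Ideal.mul_mem_mul hd hΨ), zero_add]
    refine ih (fun c hc => hl c (by simp [hc])) φ hφ hB _ ?_
    rcases Nat.eq_zero_or_pos l.length with h0 | h0
    · rw [h0, Nat.zero_sub, Submodule.pow_zero, Ideal.one_eq_top]; exact Submodule.mem_top
    · refine der_mem_pow (b a).2 _ _ ?_
      rwa [Nat.sub_add_cancel h0]

variable (hconn : SGA3y.IsConnectedCoalg k H)
include hconn

theorem span_word [DecidableEq ι] (bb : Module.Basis ι k (SGA3y.primLie k H)) (φ : ι → Du k H)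
    (h1 : ∀ a, φ a ∈ aug k H) (hd : ∀ a c, φ c (bb a : H) = if a = c then 1 else 0) :
    ∀ x : H, x ∈ Submodule.span k (Set.range (word k bb)) := by
  classical
  suffices ∀ n, ∀ x : H, (∀ Φ ∈ aug k H ^ (n + 1), Φ.ofConv x = 0) → x ∈ Submodule.span k (Set.range (word k bb)) by
    intro x
    obtain ⟨n, hn⟩ := exists_vanish hconn x
    exact this n x hn
  intro n
  induction n with
  | zero =>
    intro x hx
    have : x = counit (R := k) x • (1 : H) := by
      rw [← sub_eq_zero, ← Module.forall_dual_apply_eq_zero_iff k]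
      intro α
      have := hx (toConv α - (toConv α : Du k H) 1 • 1) (by rw [zero_add, Submodule.pow_one]; exact sub_mem_aug _)
      simpa [mul_comm] using this
    rw [this]
    exact Submodule.smul_mem _ _ (Submodule.subset_span ⟨[], by simp [word]⟩)
  | succ n ih =>
    intro x hx
    obtain ⟨Z, hZ, hc⟩ := exists_fg_contract (k := k) x
    -- finitely many basis vectors
    set Z' : Submodule k H := Z ⊔ Submodule.span k {(1 : H)} with hZ'
    haveI : Module.Finite k (Submodule.span k ({(1 : H)} : Set H)) := Module.Finite.span_of_finite k (Set.finite_singleton _)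
    set V : Submodule k (SGA3y.primLie k H) := Z'.comap (SGA3y.primLie k H).toSubmodule.subtype with hV
    haveI : Module.Finite k V := by
      let f : V →ₗ[k] Z' := ((SGA3y.primLie k H).toSubmodule.subtype ∘ₗ V.subtype).codRestrict Z' fun v => v.2
      exact Module.Finite.of_injective f fun a b h => Subtype.ext (Subtype.ext (congrArg (fun z : Z' => (z : H)) h :))
    obtain ⟨S, hS⟩ := Module.Finite.fg_top (R := k) (M := V)
    set B : Finset ι := S.biUnion fun v => (bb.repr (v : SGA3y.primLie k H)).support with hB
    have hVB : ∀ v ∈ V, ∀ χ : Du k H, (∀ a ∈ B, χ.ofConv (bb a : H) = 0) → χ.ofConv (v : H) = 0 := by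
      intro v hv χ hχ
      have hv' : (⟨v, hv⟩ : V) ∈ Submodule.span k (S : Set V) := hS ▸ Submodule.mem_top
      suffices ∀ w : V, w ∈ Submodule.span k (S : Set V) → χ.ofConv ((w : SGA3y.primLie k H) : H) = 0 from this _ hv'
      intro w hw
      induction hw using Submodule.span_induction with
      | zero => simp
      | add a b _ _ ha hb => simp [ha, hb]
      | smul r a _ ha => simp [ha]
      | mem w hw =>
        rw [← bb.linearCombination_repr (w : SGA3y.primLie k H), Finsupp.linearCombination_apply, Finsupp.sum]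
        simp only [AddSubmonoidClass.coe_finsetSum, SetLike.val_smul, map_sum, map_smul]
        refine Finset.sum_eq_zero fun a ha => ?_
        rw [hχ a (Finset.mem_biUnion.mpr ⟨w, hw, ha⟩), smul_zero]
    have hxN : ∀ χ ∈ aug k H, (∀ a ∈ B, χ.ofConv (bb a : H) = 0) → ∀ Ψ ∈ aug k H ^ n, (χ * Ψ) x = 0 := by
      intro χ hχ hχB Ψ hΨ
      set z := contract x Ψ with hz
      have hz' : z - counit (R := k) z • (1 : H) ∈ SGA3y.primLie k H := by
        refine prim_of_vanish (by simp) fun a ha b hb => ?_
        rw [map_sub, map_smul, conv_apply_one, mem_aug.mp ha, zero_mul, smul_zero, sub_zero, hz, ← conv_eq_contract]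
        refine hx _ ?_
        rw [Ideal.IsTwoSided.pow_succ, mul_assoc]
        refine Ideal.mul_mem_mul ha ?_
        rw [Ideal.IsTwoSided.pow_succ]
        exact Ideal.mul_mem_mul hb hΨ
      have := hVB ⟨_, hz'⟩ (show _ ∈ Z' from sub_mem (Submodule.mem_sup_left (hc Ψ))
        (Submodule.mem_sup_right (Submodule.smul_mem _ _ (Submodule.mem_span_singleton_self 1)))) χ hχB
      simp only [map_sub, map_smul, mem_aug.mp hχ, smul_zero, sub_zero] at this
      rw [conv_eq_contract]
      exact this
    set T : Finset (Multiset ι) := (B.sym (n + 1)).image Sym.toMultiset with hT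
    have hmemT : ∀ s : Multiset ι, s ∈ T ↔ Multiset.card s = n + 1 ∧ ∀ a ∈ s, a ∈ B := by
      intro s
      simp only [hT, Finset.mem_image, Finset.mem_sym_iff]
      constructor
      · rintro ⟨t, ht, rfl⟩; exact ⟨t.2, ht⟩
      · rintro ⟨h, h'⟩; exact ⟨⟨s, h⟩, h', rfl⟩
    set y : H := ∑ s ∈ T, ((coordProd φ s) x / (coordProd φ s) (word k bb s.toList)) • word k bb s.toList with hy
    have hyspan : y ∈ Submodule.span k (Set.range (word k bb)) :=
      sum_mem fun s _ => Submodule.smul_mem _ _ (Submodule.subset_span ⟨_, rfl⟩)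
    suffices h : ∀ Φ ∈ aug k H ^ (n + 1), Φ.ofConv (x - y) = 0 by
      have := add_mem (ih _ h) hyspan
      rwa [sub_add_cancel] at this
    have hzero : ∀ Φ ∈ aug k H ^ (n + 2), Φ.ofConv (x - y) = 0 := by
      intro Φ hΦ
      rw [map_sub, hx Φ hΦ, hy, map_sum, Finset.sum_eq_zero, sub_zero]
      intro s hs
      rw [map_smul, apply_word_of_lt bb (j := n + 2) (by rw [Multiset.length_toList, ((hmemT s).mp hs).1]; omega) hΦ,
        smul_zero]
    have hN : ∀ χ ∈ aug k H, (∀ a ∈ B, χ.ofConv (bb a : H) = 0) → ∀ Ψ ∈ aug k H ^ n, (χ * Ψ) (x - y) = 0 := by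
      intro χ hχ hχB Ψ hΨ
      rw [map_sub, hxN χ hχ hχB Ψ hΨ, hy, map_sum, Finset.sum_eq_zero, sub_zero]
      intro s hs
      obtain ⟨hcard, hsub⟩ := (hmemT s).mp hs
      rw [map_smul, word_vanish bb B s.toList (fun a ha => hsub a (Multiset.mem_toList.mp ha)) χ hχ hχB Ψ
        (by rw [Multiset.length_toList, hcard]; exact hΨ), smul_zero]
    have hC : ∀ s ∈ T, (coordProd φ s) (x - y) = 0 := by
      intro s hs
      obtain ⟨hcard, hsub⟩ := (hmemT s).mp hs
      have hcw := coordProd_word (fun a => bb a) φ h1 hd
      rw [map_sub, hy, map_sum, Finset.sum_eq_single s, map_smul, smul_eq_mul,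
        div_mul_cancel₀ _ ((hcw s.toList s (by simp)).1 (by simp)), sub_self]
      · intro t ht hne
        rw [map_smul, (hcw t.toList s (by simp [hcard, ((hmemT t).mp ht).1])).2 (by simpa using hne), smul_zero]
      · exact fun h => absurd hs h
    have key : ∀ j, j ≤ n + 1 → ∀ s : Multiset ι, (∀ a ∈ s, a ∈ B) → Multiset.card s + j = n + 1 →
        ∀ Φ ∈ aug k H ^ j, (coordProd φ s * Φ) (x - y) = 0 := by
      intro j
      induction j with
      | zero =>
        intro _ s hs hcard Φ _
        rw [eq_one_smul_add Φ, mul_add, mul_smul_comm, mul_one, ofConv_add, ofConv_smul, LinearMap.add_apply,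
          LinearMap.smul_apply, hC s ((hmemT s).mpr ⟨by omega, hs⟩), smul_zero, zero_add]
        refine hzero _ ?_
        rw [show n + 2 = Multiset.card s + 1 by omega, Submodule.pow_succ]
        exact Ideal.mul_mem_mul (coordProd_mem φ h1 s) (sub_mem_aug Φ)
      | succ j ihj =>
        intro hj s hs hcard Φ hΦ
        rw [Ideal.IsTwoSided.pow_succ] at hΦ
        refine Submodule.mul_induction_on hΦ (fun ψ hψ Φ' hΦ' => ?_)
          (fun a b ha hb => by rw [mul_add, ofConv_add, LinearMap.add_apply, ha, hb, add_zero])
        set ψ' : Du k H := ψ - ∑ a ∈ B, ψ.ofConv (bb a : H) • φ a with hψ'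
        have hψ'B : ∀ a ∈ B, ψ'.ofConv (bb a : H) = 0 := by
          intro a ha
          simp only [hψ', ofConv_sub, LinearMap.sub_apply, WithConv.ofConv_sum, LinearMap.sum_apply, ofConv_smul,
            LinearMap.smul_apply, hd, smul_eq_mul, mul_ite, mul_one, mul_zero, Finset.sum_ite_eq, ha, if_true, sub_self]
        have hψ'aug : ψ' ∈ aug k H := sub_mem hψ (sum_mem fun a _ => by
          rw [Algebra.smul_def]; exact Ideal.mul_mem_left _ _ (h1 a))
        have e : coordProd φ s * (ψ * Φ') = ψ' * (coordProd φ s * Φ') +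
            ∑ a ∈ B, ψ.ofConv (bb a : H) • (coordProd φ (a ::ₘ s) * Φ') := by
          rw [hψ', sub_mul, Finset.sum_mul]
          simp only [coordProd_cons, smul_mul_assoc, mul_assoc]
          rw [sub_add_cancel, mul_left_comm]
        rw [e, ofConv_add, LinearMap.add_apply, hN ψ' hψ'aug hψ'B _ ?_, zero_add, WithConv.ofConv_sum, LinearMap.sum_apply]
        · refine Finset.sum_eq_zero fun a ha => ?_
          rw [ofConv_smul, LinearMap.smul_apply, ihj (by omega) (a ::ₘ s)
            (fun c hc => by rcases Multiset.mem_cons.mp hc with rfl | hc <;> [exact ha; exact hs c hc])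
            (by rw [Multiset.card_cons]; omega) Φ' hΦ', smul_zero]
        · rw [show n = Multiset.card s + j by omega]
          rcases Nat.eq_zero_or_pos j with rfl | h0
          · exact Ideal.mul_mem_right _ _ (coordProd_mem φ h1 s)
          · rw [Submodule.pow_add _ h0.ne']
            exact Ideal.mul_mem_mul (coordProd_mem φ h1 s) hΦ'
    intro Φ hΦ
    have := key (n + 1) le_rfl 0 (by simp) (by simp) Φ hΦ
    rwa [coordProd, Multiset.map_zero, Multiset.prod_zero, one_mul] at this

omit ι in
theorem lift_bijective :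
    Function.Bijective (UniversalEnvelopingAlgebra.lift k (SGA3y.primLie k H).incl) := by
  classical
  set bb := Module.Free.chooseBasis k (SGA3y.primLie k H) with hbb
  obtain ⟨φ, h1, hd⟩ := exists_coords bb (SGA3y.primLie k H).toSubmodule.subtype Subtype.val_injective
    fun v => counit_prim v.2
  have hd' : ∀ a c, φ c (bb a : H) = if a = c then 1 else 0 := fun a c => by
    have := hd c (bb a)
    rw [Module.Basis.coord_apply, Module.Basis.repr_self, Finsupp.single_apply] at this
    exact this
  set f := UniversalEnvelopingAlgebra.lift k (SGA3y.primLie k H).incl with hf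
  have hword : ∀ l, f (uword k bb l) = word k bb l := by
    intro l
    induction l with
    | nil => simp [uword, word]
    | cons a l ih =>
      rw [uword_cons, map_mul, ih, hf, UniversalEnvelopingAlgebra.lift_ι_apply]
      simp [word]
  constructor
  · rw [injective_iff_map_eq_zero]
    intro u hu
    have hu' : u ∈ Submodule.span k (Set.range fun s : Multiset _ => uword k bb s.toList) := (span_sorted bb) ▸ Submodule.mem_top
    obtain ⟨c, rfl⟩ := Finsupp.mem_span_range_iff_exists_finsupp.mp hu'
    simp only [Finsupp.sum, map_sum, map_smul, hword] at hu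
    have := linearIndependent_iff'.mp (linearIndependent_word (fun a => bb a) φ h1 hd') c.support c hu
    exact Finset.sum_eq_zero fun s hs => by simp [this s hs]
  · intro x
    have hx := span_word hconn bb φ h1 hd' x
    induction hx using Submodule.span_induction with
    | zero => exact ⟨0, map_zero _⟩
    | add a b _ _ ha hb =>
      obtain ⟨p, rfl⟩ := ha
      obtain ⟨q, rfl⟩ := hb
      exact ⟨p + q, map_add _ _ _⟩
    | smul r a _ ha =>
      obtain ⟨p, rfl⟩ := ha
      exact ⟨r • p, map_smul _ _ _⟩
    | mem a ha =>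
      obtain ⟨l, rfl⟩ := ha
      exact ⟨uword k bb l, hword l⟩

end Groth.Agent.H68.CMM
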